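import Groth.Agent.S4948
import Groth.Agent.E4O.OpenMapDims

/-! Connectedness of the generic fibre over a discrete valuation ring (EGA IV 15.5.3). -/

set_option autoImplicit false

universe u

open CategoryTheory CategoryTheory.Limits AlgebraicGeometry Topology

namespace Groth.Agent.Conn62

theorem exists_idempotent_of_sq_eq {B : Type u} [CommRing B] (t : B) (ht : ∀ c, t * c = 0 → c = 0)
    [_root_.IsReduced (B ⧸ Ideal.span {t})] : ∀ (n : ℕ) (b : B), b * b = t ^ n * b →
      ∃ c, c * c = c ∧ b = t ^ n * c := by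
  intro n
  induction n with
  | zero => exact fun b hb => ⟨b, by simpa using hb, by simp⟩
  | succ n ih =>
    intro b hb
    have hn : IsNilpotent (Ideal.Quotient.mk (Ideal.span {t}) b) := by
      refine ⟨2, ?_⟩
      rw [sq, ← map_mul, hb, Ideal.Quotient.eq_zero_iff_mem, Ideal.mem_span_singleton]
      exact ⟨t ^ n * b, by ring⟩
    obtain ⟨c, rfl⟩ := Ideal.mem_span_singleton.1 (Ideal.Quotient.eq_zero_iff_mem.1 hn.eq_zero)
    have hc : c * c = t ^ n * c := by
      have h2 : t * (t * (c * c - t ^ n * c)) = 0 := by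
        rw [show t * (t * (c * c - t ^ n * c)) = t * c * (t * c) - t ^ (n + 1) * (t * c) by ring, hb, sub_self]
      exact sub_eq_zero.1 (ht _ (ht _ h2))
    obtain ⟨c', h1, h2⟩ := ih c hc
    exact ⟨c', h1, by rw [h2]; ring⟩

/-- If `B` is local and `B/tB` is reduced, `t` regular, then `D(t)` is connected. -/
theorem trivial_of_clopen {B : Type u} [CommRing B] [IsLocalRing B] (t : B) (ht : ∀ c, t * c = 0 → c = 0)
    [_root_.IsReduced (B ⧸ Ideal.span {t})] (S : Set (PrimeSpectrum (Localization.Away t))) (hS : IsClopen S) :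
    S = ∅ ∨ S = Set.univ := by
  obtain ⟨e, he, rfl⟩ := PrimeSpectrum.exists_idempotent_basicOpen_eq_of_isClopen hS
  obtain ⟨b, ⟨_, n, rfl⟩, rfl⟩ := IsLocalization.exists_mk'_eq (Submonoid.powers t) e
  have hinj : Function.Injective (algebraMap B (Localization.Away t)) := by
    rw [injective_iff_map_eq_zero]
    intro c hc
    obtain ⟨⟨_, m, rfl⟩, hm⟩ := (IsLocalization.map_eq_zero_iff (Submonoid.powers t) _ c).1 hc
    clear hc
    change t ^ m * c = 0 at hm
    induction m with
    | zero => simpa using hm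
    | succ m ih => exact ih (ht _ (by rw [← hm]; ring))
  have hb : b * b = t ^ n * b := by
    refine hinj ?_
    have h : IsLocalization.mk' (Localization.Away t) b (⟨t ^ n, n, rfl⟩ : Submonoid.powers t) *
        IsLocalization.mk' (Localization.Away t) b (⟨t ^ n, n, rfl⟩ : Submonoid.powers t) =
      IsLocalization.mk' (Localization.Away t) b (⟨t ^ n, n, rfl⟩ : Submonoid.powers t) := he
    have hsp := IsLocalization.mk'_spec (Localization.Away t) b (⟨t ^ n, n, rfl⟩ : Submonoid.powers t)
    generalize IsLocalization.mk' (Localization.Away t) b (⟨t ^ n, n, rfl⟩ : Submonoid.powers t) = v at h hsp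
    have hsp' : v * algebraMap B (Localization.Away t) (t ^ n) = algebraMap B _ b := hsp
    rw [map_mul, map_mul, ← hsp']
    linear_combination (algebraMap B (Localization.Away t) (t ^ n)) ^ 2 * h
  obtain ⟨c, hc, rfl⟩ := exists_idempotent_of_sq_eq t ht n b hb
  have hmk : IsLocalization.mk' (Localization.Away t) (t ^ n * c) (⟨t ^ n, n, rfl⟩ : Submonoid.powers t) =
      algebraMap B _ c := by
    rw [IsLocalization.mk'_eq_iff_eq_mul, ← map_mul, mul_comm]
  rw [hmk]
  have : c = 0 ∨ c = 1 := by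
    rcases IsLocalRing.isUnit_or_isUnit_one_sub_self c with h | h
    · exact .inr (h.mul_left_cancel (by rw [hc, mul_one]))
    · exact .inl (h.mul_left_cancel (by rw [mul_zero, sub_mul, one_mul, hc, sub_self]))
  rcases this with rfl | rfl <;> simp

theorem preconnected_generic {A : Type u} [CommRing A] [IsDomain A] [IsDiscreteValuationRing A]
    {X : Scheme.{u}} (f : X ⟶ Spec (CommRingCat.of A)) [LocallyOfFiniteType f] (hopen : IsOpenMap f.base)
    [PreconnectedSpace X] (a b : ↥(Spec (CommRingCat.of A)))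
    (ha : IsClosed ({a} : Set ↥(Spec (CommRingCat.of A)))) (hb : ∀ z : ↥(Spec (CommRingCat.of A)), b ⤳ z)
    (hred : AlgebraicGeometry.IsReduced (f.fiber a)) :
    _root_.IsPreconnected (f ⁻¹' {b}) := by
  have : LocallyOfFinitePresentation f := E4O.locallyOfFinitePresentation_of_isLocallyNoetherian f
  have : IsLocallyNoetherian X := LocallyOfFiniteType.isLocallyNoetherian f
  obtain rfl : IsLocalRing.closedPoint A = a := by
    have h : (a : PrimeSpectrum A) ⤳ IsLocalRing.closedPoint A :=
      (PrimeSpectrum.le_iff_specializes (a : PrimeSpectrum A) _).1 (IsLocalRing.le_maximalIdeal (a : PrimeSpectrum A).2.ne_top)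
    exact h.mem_closed ha rfl
  have hbot : (b : PrimeSpectrum A).asIdeal = ⊥ :=
    le_bot_iff.1 ((PrimeSpectrum.le_iff_specializes (b : PrimeSpectrum A) ⟨⊥, Ideal.isPrime_bot⟩).2 (hb _))
  have htwo : ∀ z : ↥(Spec (CommRingCat.of A)), z ≠ b → z = IsLocalRing.closedPoint A := fun z hz => by
    have : (z : PrimeSpectrum A).asIdeal ≠ ⊥ := fun h => hz (PrimeSpectrum.ext (h.trans hbot.symm))
    exact PrimeSpectrum.ext (IsLocalRing.eq_maximalIdeal ((z : PrimeSpectrum A).2.isMaximal this))
  have hab : b ≠ IsLocalRing.closedPoint A := fun h =>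
    IsDiscreteValuationRing.not_a_field A ((congrArg PrimeSpectrum.asIdeal h).symm.trans hbot)
  let G := f ⁻¹' {b}
  have hG : IsOpen G := by
    have : G = (f ⁻¹' {IsLocalRing.closedPoint A})ᶜ := by
      ext w
      exact ⟨fun h h' => hab (h.symm.trans h'), fun h => by_contra fun h' => h (htwo _ h')⟩
    rw [this]
    exact (ha.preimage f.continuous).isOpen_compl
  -- near any point there is only one piece
  have hloc : ∀ (U₁ U₂ : Set X), IsOpen U₁ → IsOpen U₂ → U₁ ∪ U₂ = G → U₁ ∩ U₂ = ∅ →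
      ∀ w₁ ∈ U₁, ∀ w₂ ∈ U₂, ∀ x, w₁ ⤳ x → w₂ ⤳ x → False := by
    intro U₁ U₂ hU₁ hU₂ hcup hcap w₁ hw₁ w₂ hw₂ x h₁ h₂
    have hfx : f x = IsLocalRing.closedPoint A := by
      refine htwo _ fun h => ?_
      rcases (hcup.ge (show x ∈ G from h) : x ∈ U₁ ∪ U₂) with hx | hx
      · exact (hcap.le ⟨h₂.mem_open hU₁ hx, hw₂⟩)
      · exact (hcap.le ⟨hw₁, h₁.mem_open hU₂ hx⟩)
    have hred' : _root_.IsReduced ((f.fiber (f x)).presheaf.stalk (f.asFiber x)) := by
      have : AlgebraicGeometry.IsReduced (f.fiber (f x)) := hfx.symm ▸ hred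
      infer_instance
    have hflat : (f.stalkMap x).hom.Flat :=
      S4948.result f x hfx (fun z _ _ => E4O.isOpenAt_of_isOpenMap hopen _) hred'
    let R := (Spec (CommRingCat.of A)).presheaf.stalk (f x)
    let B := X.presheaf.stalk x
    let y : PrimeSpectrum A := f x
    have hyne : y.asIdeal ≠ ⊥ := fun h => hab ((PrimeSpectrum.ext (h.trans hbot.symm) : y = b).symm.trans hfx)
    obtain ⟨al, hal⟩ : ∃ _ : Algebra A R, IsLocalization.AtPrime R y.asIdeal :=
      E4O.exists_isLocalization_stalk (𝟙 (Spec (CommRingCat.of A))) y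
    have hdom : IsDomain R := IsLocalization.isDomain_of_le_nonZeroDivisors (R := A) (S := R)
      y.asIdeal.primeCompl_le_nonZeroDivisors
    have : IsDiscreteValuationRing R :=
      IsLocalization.AtPrime.isDiscreteValuationRing_of_dedekind_domain A hyne R
    let φ : R →+* B := (f.stalkMap x).hom
    obtain ⟨π, hπ⟩ := IsDiscreteValuationRing.exists_irreducible R
    have hπm : IsLocalRing.maximalIdeal R = Ideal.span {π} := hπ.maximalIdeal_eq
    have : _root_.IsReduced (B ⧸ Ideal.span {φ π}) := by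
      rw [show Ideal.span {φ π} = (IsLocalRing.maximalIdeal R).map φ by rw [hπm, Ideal.map_span, Set.image_singleton]]
      exact isReduced_of_injective (FlatMor68.FibreStalk.fibreStalkEquivAt f x).toRingHom
        (FlatMor68.FibreStalk.fibreStalkEquivAt f x).injective
    have hreg : ∀ c : B, φ π * c = 0 → c = 0 := fun c hc => by
      let _ : Algebra R B := φ.toAlgebra
      have : Module.Flat R B := hflat
      exact (IsSMulRegular.of_flat (S := B) (IsSMulRegular.of_ne_zero hπ.ne_zero)) (show φ π • c = φ π • 0 by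
        rw [smul_zero]; exact hc)
    let ι : PrimeSpectrum B → X := X.fromSpecStalk x
    have hι : Continuous ι := (X.fromSpecStalk x).continuous
    have hpt : ∀ P : PrimeSpectrum B, ι P ∈ G ↔ φ π ∉ P.asIdeal := by
      intro P
      have h1 : f (ι P) = (Spec (CommRingCat.of A)).fromSpecStalk (f x) (PrimeSpectrum.comap φ P) := by
        refine (Scheme.Hom.comp_apply (X.fromSpecStalk x) f P).symm.trans ?_
        rw [← Scheme.SpecMap_stalkMap_fromSpecStalk]
        rfl
      have h3 : f (ι P) = f x ↔ φ π ∈ P.asIdeal := by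
        rw [h1]
        refine ⟨fun hP => ?_, fun hP => ?_⟩
        · have h2 : PrimeSpectrum.comap φ P = IsLocalRing.closedPoint R :=
            ((Spec (CommRingCat.of A)).fromSpecStalk (f x)).isEmbedding.injective
              (hP.trans Scheme.fromSpecStalk_closedPoint.symm)
          show π ∈ P.asIdeal.comap φ
          rw [show P.asIdeal.comap φ = IsLocalRing.maximalIdeal R from congrArg PrimeSpectrum.asIdeal h2, hπm]
          exact Ideal.mem_span_singleton_self π
        · have h2 : PrimeSpectrum.comap φ P = IsLocalRing.closedPoint R := by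
            refine PrimeSpectrum.ext (le_antisymm (IsLocalRing.le_maximalIdeal (P.2.comap φ).ne_top) ?_)
            show IsLocalRing.maximalIdeal R ≤ P.asIdeal.comap φ
            rw [hπm, Ideal.span_singleton_le_iff_mem]
            exact hP
          rw [h2]
          exact Scheme.fromSpecStalk_closedPoint
      constructor
      · exact fun hP hπP => hab (hP.symm.trans ((h3.2 hπP).trans hfx))
      · exact fun hP => by_contra fun h => hP (h3.1 ((htwo _ h).trans hfx.symm))
    let κ : PrimeSpectrum (Localization.Away (φ π)) → X := ι ∘ PrimeSpectrum.comap (algebraMap B _)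
    have hκ : Continuous κ := hι.comp (PrimeSpectrum.continuous_comap _)
    have hκG : ∀ P, κ P ∈ G := fun P => (hpt _).2 fun hmem =>
      P.2.ne_top (Ideal.eq_top_of_isUnit_mem _ hmem (IsLocalization.Away.algebraMap_isUnit _))
    have hcompl : (κ ⁻¹' U₁)ᶜ = κ ⁻¹' U₂ := by
      ext P
      refine ⟨fun h => ((hcup.ge (hκG P) : κ P ∈ U₁ ∪ U₂)).resolve_left h, fun h h' => hcap.le ⟨h', h⟩⟩
    have hcl : IsClopen (κ ⁻¹' U₁) :=
      ⟨isOpen_compl_iff.1 (hcompl ▸ hU₂.preimage hκ), hU₁.preimage hκ⟩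
    have hlift : ∀ w, w ∈ G → w ⤳ x → ∃ P, κ P = w := by
      intro w hwG hwx
      obtain ⟨P, rfl⟩ : w ∈ Set.range (X.fromSpecStalk x) := by rw [Scheme.range_fromSpecStalk]; exact hwx
      obtain ⟨Q, hQ⟩ : P ∈ Set.range (PrimeSpectrum.comap (algebraMap B (Localization.Away (φ π)))) := by
        rw [PrimeSpectrum.localization_away_comap_range _ (φ π)]
        exact (hpt P).1 hwG
      exact ⟨Q, congrArg ι hQ⟩
    obtain ⟨P₁, rfl⟩ := hlift w₁ (hcup.le (Or.inl hw₁)) h₁
    obtain ⟨P₂, rfl⟩ := hlift w₂ (hcup.le (Or.inr hw₂)) h₂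
    rcases trivial_of_clopen (φ π) hreg _ hcl with h | h
    · exact (h.le (show P₁ ∈ κ ⁻¹' U₁ from hw₁) : False)
    · exact hcap.le ⟨h.ge (Set.mem_univ P₂), hw₂⟩
  intro u v hu hv hsub hnu hnv
  by_contra hne
  rw [Set.not_nonempty_iff_eq_empty] at hne
  let U₁ := u ∩ G
  let U₂ := v ∩ G
  have hU₁ : IsOpen U₁ := hu.inter hG
  have hU₂ : IsOpen U₂ := hv.inter hG
  have hcup : U₁ ∪ U₂ = G := by
    rw [← Set.union_inter_distrib_right, Set.inter_eq_right]; exact hsub
  have hcap : U₁ ∩ U₂ = ∅ := Set.eq_empty_of_forall_notMem fun w hw =>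
    hne.le (show w ∈ G ∩ (u ∩ v) from ⟨hw.1.2, hw.1.1, hw.2.1⟩)
  have hdense : ∀ x : X, x ∈ closure U₁ ∪ closure U₂ := by
    intro x
    rw [← closure_union, hcup, mem_closure_iff]
    intro W hW hxW
    obtain ⟨w, hw, hwb⟩ := (hb (f x)).mem_open (hopen W hW) ⟨x, hxW, rfl⟩
    exact ⟨w, hw, hwb⟩
  have hdisj : Disjoint (closure U₁) (closure U₂) := Set.disjoint_left.2 fun x h₁ h₂ => by
    obtain ⟨w₁, hw₁, h₁⟩ := E4O.exists_specializes_of_mem_closure_isLocallyConstructible
      (E4O.isLocallyConstructible_of_isOpen' hU₁) h₁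
    obtain ⟨w₂, hw₂, h₂⟩ := E4O.exists_specializes_of_mem_closure_isLocallyConstructible
      (E4O.isLocallyConstructible_of_isOpen' hU₂) h₂
    exact hloc U₁ U₂ hU₁ hU₂ hcup hcap w₁ hw₁ w₂ hw₂ x h₁ h₂
  obtain ⟨w₁, hw₁⟩ := hnu
  obtain ⟨w₂, hw₂⟩ := hnv
  obtain ⟨z, -, hz₁, hz₂⟩ := isPreconnected_closed_iff.1 PreconnectedSpace.isPreconnected_univ
    (closure U₁) (closure U₂) isClosed_closure isClosed_closure (fun x _ => hdense x)
    ⟨w₁, trivial, subset_closure ⟨hw₁.2, hw₁.1⟩⟩ ⟨w₂, trivial, subset_closure ⟨hw₂.2, hw₂.1⟩⟩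
  exact Set.disjoint_left.1 hdisj hz₁ hz₂

end Groth.Agent.Conn62
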