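import Groth.Agent.Conn62.GenConn

/-! Near a point of the reduced special fibre over a discrete valuation ring the generic fibre does not split. -/

set_option autoImplicit false

universe u

open CategoryTheory CategoryTheory.Limits AlgebraicGeometry Topology

namespace Groth.Agent.Conn62

variable {A : Type u} [CommRing A] [IsDomain A] [IsDiscreteValuationRing A] {X : Scheme.{u}}
  (f : X ⟶ Spec (CommRingCat.of A)) [LocallyOfFiniteType f]

/-- The generizations of a point of the special fibre meet only one piece of the generic fibre. -/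
theorem not_split_at (x : X) (hfx : f x = IsLocalRing.closedPoint A)
    (hopen : ∀ z : X, f z = IsLocalRing.closedPoint A → z ⤳ x → EGA43.IsOpenAt f.base z)
    (hred' : _root_.IsReduced ((f.fiber (f x)).presheaf.stalk (f.asFiber x)))
    {U₁ U₂ : Set X} (hU₁ : IsOpen U₁) (hU₂ : IsOpen U₂)
    (hcup : U₁ ∪ U₂ = (f ⁻¹' {IsLocalRing.closedPoint A})ᶜ) (hcap : U₁ ∩ U₂ = ∅)
    {w₁ w₂ : X} (hw₁ : w₁ ∈ U₁) (hw₂ : w₂ ∈ U₂) (h₁ : w₁ ⤳ x) (h₂ : w₂ ⤳ x) : False := by
  have : LocallyOfFinitePresentation f := E4O.locallyOfFinitePresentation_of_isLocallyNoetherian f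
  let G : Set X := (f ⁻¹' {IsLocalRing.closedPoint A})ᶜ
  have hflat : (f.stalkMap x).hom.Flat := S4948.result f x hfx (fun z hz _ => by
    refine hopen _ ((E4O.apply_fiberι f _ z).trans hfx) ?_
    have := (E4O.specializes_fiberι_iff f _ _ _).2 (specializes_iff_mem_closure.2 hz)
    rwa [f.fiberι_asFiber] at this) hred'
  let R := (Spec (CommRingCat.of A)).presheaf.stalk (f x)
  let B := X.presheaf.stalk x
  let y : PrimeSpectrum A := f x
  have hyne : y.asIdeal ≠ ⊥ := fun h => IsDiscreteValuationRing.not_a_field A ((congrArg PrimeSpectrum.asIdeal hfx).symm.trans h)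
  obtain ⟨al, hal⟩ : ∃ _ : Algebra A R, IsLocalization.AtPrime R y.asIdeal :=
    E4O.exists_isLocalization_stalk (𝟙 (Spec (CommRingCat.of A))) y
  have hdom : IsDomain R := IsLocalization.isDomain_of_le_nonZeroDivisors (R := A) (S := R)
    y.asIdeal.primeCompl_le_nonZeroDivisors
  have : IsDiscreteValuationRing R :=
    IsLocalization.AtPrime.isDiscreteValuationRing_of_dedekind_domain A hyne R
  let φ : R →+* B := (f.stalkMap x).hom
  obtain ⟨π, hπ⟩ := IsDiscreteValuationRing.exists_irreducible R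
  have hπm : IsLocalRing.maximalIdeal R = Ideal.span {π} := hπ.maximalIdeal_eq
  have : _root_.IsReduced (B ⧸ Ideal.span {φ π}) := by
    rw [show Ideal.span {φ π} = (IsLocalRing.maximalIdeal R).map φ by rw [hπm, Ideal.map_span, Set.image_singleton]]
    exact isReduced_of_injective (FlatMor68.FibreStalk.fibreStalkEquivAt f x).toRingHom
      (FlatMor68.FibreStalk.fibreStalkEquivAt f x).injective
  have hreg : ∀ c : B, φ π * c = 0 → c = 0 := fun c hc => by
    let _ : Algebra R B := φ.toAlgebra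
    have : Module.Flat R B := hflat
    exact (IsSMulRegular.of_flat (S := B) (IsSMulRegular.of_ne_zero hπ.ne_zero)) (show φ π • c = φ π • 0 by
      rw [smul_zero]; exact hc)
  let ι : PrimeSpectrum B → X := X.fromSpecStalk x
  have hι : Continuous ι := (X.fromSpecStalk x).continuous
  have hpt : ∀ P : PrimeSpectrum B, ι P ∈ G ↔ φ π ∉ P.asIdeal := by
    intro P
    have h1 : f (ι P) = (Spec (CommRingCat.of A)).fromSpecStalk (f x) (PrimeSpectrum.comap φ P) := by
      refine (Scheme.Hom.comp_apply (X.fromSpecStalk x) f P).symm.trans ?_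
      rw [← Scheme.SpecMap_stalkMap_fromSpecStalk]
      rfl
    have h3 : f (ι P) = f x ↔ φ π ∈ P.asIdeal := by
      rw [h1]
      refine ⟨fun hP => ?_, fun hP => ?_⟩
      · have h2 : PrimeSpectrum.comap φ P = IsLocalRing.closedPoint R :=
          ((Spec (CommRingCat.of A)).fromSpecStalk (f x)).isEmbedding.injective
            (hP.trans Scheme.fromSpecStalk_closedPoint.symm)
        show π ∈ P.asIdeal.comap φ
        rw [show P.asIdeal.comap φ = IsLocalRing.maximalIdeal R from congrArg PrimeSpectrum.asIdeal h2, hπm]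
        exact Ideal.mem_span_singleton_self π
      · have h2 : PrimeSpectrum.comap φ P = IsLocalRing.closedPoint R := by
          refine PrimeSpectrum.ext (le_antisymm (IsLocalRing.le_maximalIdeal (P.2.comap φ).ne_top) ?_)
          show IsLocalRing.maximalIdeal R ≤ P.asIdeal.comap φ
          rw [hπm, Ideal.span_singleton_le_iff_mem]
          exact hP
        rw [h2]
        exact Scheme.fromSpecStalk_closedPoint
    constructor
    · exact fun hP hπP => hP ((h3.2 hπP).trans hfx)
    · exact fun hP h => hP (h3.1 (Eq.trans h hfx.symm))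
  let κ : PrimeSpectrum (Localization.Away (φ π)) → X := ι ∘ PrimeSpectrum.comap (algebraMap B _)
  have hκ : Continuous κ := hι.comp (PrimeSpectrum.continuous_comap _)
  have hκG : ∀ P, κ P ∈ G := fun P => (hpt _).2 fun hmem =>
    P.2.ne_top (Ideal.eq_top_of_isUnit_mem _ hmem (IsLocalization.Away.algebraMap_isUnit _))
  have hcompl : (κ ⁻¹' U₁)ᶜ = κ ⁻¹' U₂ := by
    ext P
    refine ⟨fun h => ((hcup.ge (hκG P) : κ P ∈ U₁ ∪ U₂)).resolve_left h, fun h h' => hcap.le ⟨h', h⟩⟩
  have hcl : IsClopen (κ ⁻¹' U₁) :=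
    ⟨isOpen_compl_iff.1 (hcompl ▸ hU₂.preimage hκ), hU₁.preimage hκ⟩
  have hlift : ∀ w, w ∈ G → w ⤳ x → ∃ P, κ P = w := by
    intro w hwG hwx
    obtain ⟨P, rfl⟩ : w ∈ Set.range (X.fromSpecStalk x) := by rw [Scheme.range_fromSpecStalk]; exact hwx
    obtain ⟨Q, hQ⟩ : P ∈ Set.range (PrimeSpectrum.comap (algebraMap B (Localization.Away (φ π)))) := by
      rw [PrimeSpectrum.localization_away_comap_range _ (φ π)]
      exact (hpt P).1 hwG
    exact ⟨Q, congrArg ι hQ⟩
  obtain ⟨P₁, rfl⟩ := hlift w₁ (hcup.le (Or.inl hw₁)) h₁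
  obtain ⟨P₂, rfl⟩ := hlift w₂ (hcup.le (Or.inr hw₂)) h₂
  rcases trivial_of_clopen (φ π) hreg _ hcl with h | h
  · exact (h.le (show P₁ ∈ κ ⁻¹' U₁ from hw₁) : False)
  · exact hcap.le ⟨h.ge (Set.mem_univ P₂), hw₂⟩

end Groth.Agent.Conn62
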